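import Cfsg.Agent.Lib.Solv.TICent.Ctx
import Cfsg.Agent.S0885

/-!
The doubly transitive action on the conjugates of an involution centralizer.
-/

set_option autoImplicit false
set_option linter.style.haveILetI false
set_option linter.unusedSectionVars false

open Cfsg

namespace Cfsg.Agent.Solv.TICent

variable {G : Type*} [Group G] [Finite G] {A : Subgroup G} (hC : Ctx A)

include hC

theorem odd_inv : Odd (Nat.card (Inv A)) := by
  classical
  obtain ⟨u, huu, huH⟩ := exists_invol_outside hC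
  haveI : Fact (Nat.Prime 2) := ⟨Nat.prime_two⟩
  rw [← card_D hC huu huH, Nat.odd_iff, ← Nat.two_dvd_ne_zero]
  intro hd
  obtain ⟨⟨x, hx⟩, hxo⟩ := exists_prime_orderOf_dvd_card' 2 hd
  rw [Subgroup.orderOf_mk] at hxo
  have := Dg_no_invol hC huH hx (by rw [← sq, ← hxo]; exact pow_orderOf_eq_one x)
  rw [this, orderOf_one] at hxo
  omega

/-- The degree is `|A| + 1`. -/
theorem card_quot : Nat.card (G ⧸ Hn A) = Nat.card A + 1 := by
  classical
  obtain ⟨u, huu, huH⟩ := exists_invol_outside hC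
  have hm2 := hC.two_le
  have e : Option A ≃ G ⧸ Hn A := by
    refine Equiv.ofBijective (fun o => o.elim (QuotientGroup.mk 1) fun t => QuotientGroup.mk ((t : G) * u)) ⟨?_, ?_⟩
    · rintro (_ | ⟨t, ht⟩) (_ | ⟨t', ht'⟩) h
      · rfl
      · exact absurd (by simpa using mul_mem (inv_mem (A_le ht')) (QuotientGroup.eq.1 h)) huH
      · exfalso
        have := inv_mem (QuotientGroup.eq.1 h)
        exact huH (by simpa using mul_mem (inv_mem (A_le ht)) this)
      · exact congrArg some (Subtype.ext (free hC huu huH ht ht' (QuotientGroup.eq.1 h)))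
    · intro x
      obtain ⟨g, rfl⟩ := QuotientGroup.mk_surjective x
      by_cases hg : g ∈ Hn A
      · exact ⟨none, QuotientGroup.eq.2 (by simpa using hg)⟩
      · obtain ⟨t, ht, e⟩ := bruhat hC huu huH hm2 hg
        exact ⟨some ⟨t, ht⟩, QuotientGroup.eq.2 e⟩
  rw [← Nat.card_congr e, Finite.card_option]

theorem stab_one (u : G) :
    MulAction.stabilizer G (QuotientGroup.mk 1 : G ⧸ Hn A) ⊓
      MulAction.stabilizer G (QuotientGroup.mk u : G ⧸ Hn A) = Dg A u := by
  have fix_base : ∀ g : G, g • (QuotientGroup.mk 1 : G ⧸ Hn A) = QuotientGroup.mk 1 ↔ g ∈ Hn A := fun g => by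
    rw [MulAction.Quotient.smul_mk, smul_eq_mul, mul_one, QuotientGroup.eq]; simp
  ext g
  rw [Subgroup.mem_inf, MulAction.mem_stabilizer_iff, MulAction.mem_stabilizer_iff, fix_base, mem_Dg,
    MulAction.Quotient.smul_mk, smul_eq_mul, QuotientGroup.eq]
  refine and_congr_right fun _ => ?_
  rw [← inv_mem_iff (x := u⁻¹ * g * u)]
  simp [mul_assoc]

/-- The action on the cosets of `N(A)` is a Zassenhaus action. -/
theorem zassenhaus {u : G} (huu : u * u = 1) (huH : u ∉ Hn A) : IsZassenhausGroup G (G ⧸ Hn A) := by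
  classical
  have hm2 := hC.two_le
  have fix_base : ∀ g : G, g • (QuotientGroup.mk 1 : G ⧸ Hn A) = QuotientGroup.mk 1 ↔ g ∈ Hn A := fun g => by
    rw [MulAction.Quotient.smul_mk, smul_eq_mul, mul_one, QuotientGroup.eq]; simp
  have mk_tu : ∀ x : G ⧸ Hn A, x ≠ QuotientGroup.mk 1 → ∃ t ∈ A, (QuotientGroup.mk (t * u) : G ⧸ Hn A) = x := by
    intro x hx
    obtain ⟨g, rfl⟩ := QuotientGroup.mk_surjective x
    obtain ⟨t, ht, e⟩ := bruhat hC huu huH hm2 (g := g) fun hg => hx (QuotientGroup.eq.2 (by simpa using hg))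
    exact ⟨t, ht, QuotientGroup.eq.2 e⟩
  obtain ⟨d₀, hd₀, hd₀1⟩ := exists_D_ne_one hC huu huH hm2
  have hfix₀ : d₀ • (QuotientGroup.mk u : G ⧸ Hn A) = QuotientGroup.mk u := by
    rw [MulAction.Quotient.smul_mk, smul_eq_mul, QuotientGroup.eq, mul_inv_rev]
    have := inv_mem (mem_Dg.1 hd₀).2
    simpa [mul_assoc] using this
  have hne : (QuotientGroup.mk 1 : G ⧸ Hn A) ≠ QuotientGroup.mk u := fun e => huH (by
    rw [QuotientGroup.eq] at e; simpa using e)
  -- standard position
  have std : ∀ x y : G ⧸ Hn A, x ≠ y → ∃ g : G, g • x = QuotientGroup.mk 1 ∧ g • y = QuotientGroup.mk u := by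
    intro x y hxy
    obtain ⟨a, rfl⟩ := QuotientGroup.mk_surjective x
    have ha : a⁻¹ • (QuotientGroup.mk a : G ⧸ Hn A) = QuotientGroup.mk 1 := by
      rw [MulAction.Quotient.smul_mk, smul_eq_mul, inv_mul_cancel]
    obtain ⟨t, ht, e2⟩ := mk_tu (a⁻¹ • y) fun e => hxy (MulAction.injective a⁻¹ (ha.trans e.symm))
    refine ⟨t⁻¹ * a⁻¹, ?_, ?_⟩
    · rw [mul_smul, ha, fix_base]; exact inv_mem (A_le ht)
    · rw [mul_smul, ← e2, MulAction.Quotient.smul_mk, smul_eq_mul, inv_mul_cancel_left]
  refine ⟨⟨fun {g g'} hgg => ?_⟩, ?_, ?_, ⟨d₀, hd₀1, _, _, hne, (fix_base d₀).2 (mem_Dg.1 hd₀).1, hfix₀⟩, ?_⟩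
  · have h : (Hn A).normalCore = ⊥ := hC.odd_normal _ inferInstance (by
      refine (odd_inv hC).of_dvd_nat ?_
      rw [← card_D hC huu huH]
      refine Subgroup.card_dvd_of_le fun x hx => mem_Dg.2 ⟨Subgroup.normalCore_le _ hx, ?_⟩
      simpa using Subgroup.normalCore_le _ ((inferInstance : (Hn A).normalCore.Normal).conj_mem x hx u⁻¹))
    have hmem : g⁻¹ * g' ∈ (Hn A).normalCore := fun b => by
      have e := hgg (QuotientGroup.mk b⁻¹)
      rw [MulAction.Quotient.smul_mk, MulAction.Quotient.smul_mk, smul_eq_mul, smul_eq_mul, QuotientGroup.eq] at e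
      rwa [show (g * b⁻¹)⁻¹ * (g' * b⁻¹) = b * (g⁻¹ * g') * b⁻¹ by group] at e
    rw [h, Subgroup.mem_bot, inv_mul_eq_one] at hmem
    exact hmem
  · rw [MulAction.is_two_pretransitive_iff]
    intro a b c d hab hcd
    obtain ⟨g, g1, g2⟩ := std a b hab
    obtain ⟨k, k1, k2⟩ := std c d hcd
    exact ⟨k⁻¹ * g, by rw [mul_smul, g1, ← k1, inv_smul_smul], by rw [mul_smul, g2, ← k2, inv_smul_smul]⟩
  · intro g a b c hab hbc hac ga gb gc
    obtain ⟨k, k1, k2⟩ := std a b hab
    have hk : ∀ x : G ⧸ Hn A, g • x = x → (k * g * k⁻¹) • (k • x) = k • x := fun x e => by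
      rw [← mul_smul, inv_mul_cancel_right, mul_smul, e]
    obtain ⟨d, hd⟩ : ∃ d, d = k * g * k⁻¹ := ⟨_, rfl⟩
    have e1 := hk a ga; rw [k1, ← hd] at e1
    have e2 := hk b gb; rw [k2, ← hd] at e2
    have e3 := hk c gc; rw [← hd] at e3
    obtain ⟨t, ht, e4⟩ := mk_tu (k • c) fun e => hac (MulAction.injective k (k1.trans e.symm))
    have hdD : d ∈ Dg A u := mem_Dg.2 ⟨(fix_base d).1 e1, by
      rw [MulAction.Quotient.smul_mk, smul_eq_mul, QuotientGroup.eq] at e2
      have := inv_mem e2
      simpa [mul_assoc] using this⟩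
    have ht1 : t ≠ 1 := fun e => hbc (MulAction.injective k (by
      show k • b = k • c
      rw [k2, ← e4, e, one_mul]))
    have hdt : d * t * d⁻¹ = t := by
      refine free hC huu huH (conj_A (mem_Dg.1 hdD).1 ht) ht ?_
      rw [← e4, MulAction.Quotient.smul_mk, smul_eq_mul, QuotientGroup.eq] at e3
      have h1 := mul_mem (mem_Dg.1 hdD).2 (inv_mem (inv_mem e3))
      have h2 : (d * t * d⁻¹ * u)⁻¹ * (t * u) = u⁻¹ * d * u * ((d * (t * u))⁻¹ * (t * u)) := by group
      rw [h2]
      exact mul_mem (mem_Dg.1 hdD).2 e3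
    have hd1 := Dg_A hC huH hdD (cent_A hC ht ht1 (mul_inv_eq_iff_eq_mul.1 hdt))
    rw [hd1] at hd
    simpa using hd.symm
  · intro N hN htr
    by_contra hno
    push Not at hno
    have hcard : Nat.card N = Nat.card (G ⧸ Hn A) := by
      refine Nat.card_eq_of_bijective (fun n : N => (n : G) • (QuotientGroup.mk 1 : G ⧸ Hn A)) ⟨?_, ?_⟩
      · intro a b hab
        have h0 := (Subgroup.ext_iff.1 (hno (QuotientGroup.mk 1)) (b⁻¹ * a)).1 (by
          rw [MulAction.mem_stabilizer_iff]
          show ((b⁻¹ * a : N) : G) • (QuotientGroup.mk 1 : G ⧸ Hn A) = QuotientGroup.mk 1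
          rw [Subgroup.coe_mul, Subgroup.coe_inv, mul_smul]
          exact inv_smul_eq_iff.2 hab)
        rw [Subgroup.mem_bot, inv_mul_eq_one] at h0
        exact h0.symm
      · intro x
        obtain ⟨n, hn⟩ := htr.exists_smul_eq (QuotientGroup.mk 1 : G ⧸ Hn A) x
        exact ⟨n, hn⟩
    have hN1 : N = ⊥ := hC.odd_normal N hN (by
      rw [hcard, card_quot hC]
      obtain ⟨t, ht, htt, ht1⟩ := hC.exInv
      refine Even.add_one (even_iff_two_dvd.2 ?_)
      rw [← orderOf_eq_prime (p := 2) (by rw [sq]; exact htt) ht1]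
      exact A.orderOf_dvd_natCard ht)
    obtain ⟨⟨g, hg⟩, hgx⟩ := htr.exists_smul_eq (QuotientGroup.mk 1 : G ⧸ Hn A) (QuotientGroup.mk u)
    rw [hN1, Subgroup.mem_bot] at hg
    subst hg
    exact hne (by simpa [Subgroup.smul_def] using hgx)

/-- Either `A` is elementary abelian or it is a nonabelian two-group, the kernel of a Zassenhaus action. -/
theorem alternatives : (∀ c ∈ A, c * c = 1) ∨ (IsPGroup 2 A ∧ ∃ x y : A, x * y ≠ y * x) := by
  classical
  obtain ⟨u, huu, huH⟩ := exists_invol_outside hC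
  have hm2 := hC.two_le
  letI : Fintype (G ⧸ Hn A) := Fintype.ofFinite _
  have fix_base : ∀ g : G, g • (QuotientGroup.mk 1 : G ⧸ Hn A) = QuotientGroup.mk 1 ↔ g ∈ Hn A := fun g => by
    rw [MulAction.Quotient.smul_mk, smul_eq_mul, mul_one, QuotientGroup.eq]; simp
  have hne : (QuotientGroup.mk 1 : G ⧸ Hn A) ≠ QuotientGroup.mk u := fun e => huH (by
    rw [QuotientGroup.eq] at e; simpa using e)
  have hstab := stab_one hC u
  have hcard : Nat.card A + 1 = Fintype.card (G ⧸ Hn A) := by
    rw [← Nat.card_eq_fintype_card, card_quot hC]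
  rcases S0885.result (zassenhaus hC huu huH) hne (Nat.card A) (Nat.card (Inv A)) hcard.symm
      (by rw [hstab, card_D hC huu huH]) (odd_inv hC) A (fun a ha => (fix_base a).2 (A_le ha)) hcard
      (fun a ha ha1 c hc => by
        by_contra hc1
        obtain ⟨g, rfl⟩ := QuotientGroup.mk_surjective c
        obtain ⟨t, ht, e⟩ := bruhat hC huu huH hm2 (g := g) fun hg => hc1 (QuotientGroup.eq.2 (by simpa using hg))
        rw [← QuotientGroup.eq.2 e, MulAction.Quotient.smul_mk, smul_eq_mul, ← mul_assoc, QuotientGroup.eq] at hc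
        have h1 := free hC huu huH (mul_mem ha ht) ht hc
        exact ha1 (mul_eq_right.1 h1)) with h | h
  · left
    let K : Subgroup G := { carrier := {a | a ∈ A ∧ a * a = 1}
                            one_mem' := ⟨one_mem A, mul_one 1⟩
                            mul_mem' := fun {a b} ha hb => ⟨mul_mem ha.1 hb.1, by
                              rw [show a * b * (a * b) = a * (b * a) * b by group, tcomm hC ha.1 ha.2 hb.1,
                                show a * (a * b) * b = (a * a) * (b * b) by group, ha.2, hb.2, one_mul]⟩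
                            inv_mem' := fun {a} ha => ⟨inv_mem ha.1, by rw [← mul_inv_rev, ha.2, inv_one]⟩ }
    have hK : Nat.card K = Nat.card (Inv A) + 1 := by
      have e : Option (Inv A) ≃ K := by
        refine Equiv.ofBijective (fun o => o.elim 1 fun s => ⟨s.1, s.2.1, s.2.2.1⟩) ⟨?_, ?_⟩
        · rintro (_ | s) (_ | s') h
          · rfl
          · exact absurd (congrArg Subtype.val h).symm s'.2.2.2
          · exact absurd (congrArg Subtype.val h) s.2.2.2
          · exact congrArg some (Subtype.ext (congrArg (fun z : K => (z : G)) h))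
        · rintro ⟨a, ha⟩
          by_cases ha1 : a = 1
          · exact ⟨none, Subtype.ext ha1.symm⟩
          · exact ⟨some ⟨a, ha.1, ha.2, ha1⟩, rfl⟩
      rw [← Nat.card_congr e, Finite.card_option]
    have hle : K ≤ A := fun a ha => ha.1
    intro c hc
    by_contra hcc
    obtain ⟨j, hj⟩ := Subgroup.card_dvd_of_le hle
    have hj2 : 2 ≤ j := by
      by_contra hj2
      have hpos := Nat.card_pos (α := A)
      have : j = 1 := by
        rcases j with _ | _ | j
        · rw [mul_zero] at hj; omega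
        · rfl
        · omega
      rw [this, mul_one] at hj
      exact hcc ((Subgroup.eq_of_le_of_card_ge hle hj.le).ge hc).2
    have := Nat.mul_le_mul_left (Nat.card K) hj2
    rw [← hj, hK] at this
    omega
  · exact Or.inr ⟨h.1, h.2.1⟩

end Cfsg.Agent.Solv.TICent
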