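import Cfsg.Prelude.Def_OddOrderLocal
import Cfsg.Prelude.Def_LieExceptional
import Cfsg.Agent.Lib.Solv.Basic
import Cfsg.Agent.Lib.Perm.Schmidt
import Cfsg.Agent.Lib.OddLocal.CN
import Cfsg.Agent.S4066

/-!
Groups in which every element centralizer is a TI-subgroup.
-/

set_option autoImplicit false
open Cfsg
open scoped Pointwise

namespace Cfsg.Agent.Solv.TICent

variable {G : Type*} [Group G]

/-- Every element centralizer is a TI-subgroup. -/
def TI (G : Type*) [Group G] : Prop :=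
  ∀ x : G, Cfsg.IsTISubset (Subgroup.centralizer ({x} : Set G) : Set G)

theorem mem_cent {x g : G} : g ∈ Subgroup.centralizer ({x} : Set G) ↔ g * x = x * g :=
  Subgroup.mem_centralizer_singleton_iff

/-- If `w ≠ 1` and its conjugate by `g` both centralise `c`, then `g` normalises `C(c)`. -/
theorem cross (h : TI G) {c w g : G} (hw : w ≠ 1) (h1 : w * c = c * w)
    (h2 : g * w * g⁻¹ * c = c * (g * w * g⁻¹)) :
    g ∈ Subgroup.normalizer (Subgroup.centralizer ({c} : Set G) : Set G) := by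
  by_contra hn
  exact hw (h c g hn w (mem_cent.2 h1) (mem_cent.2 h2))

theorem sub (h : TI G) (H : Subgroup G) : TI H := by
  intro x g hg v hv hgv
  by_contra hv1
  refine hg (Subgroup.mem_normalizer_iff.2 fun n => ?_)
  have hN := cross h (c := (x : G)) (w := (v : G)) (g := (g : G)) (fun e => hv1 (Subtype.ext e))
    (congrArg Subtype.val (mem_cent.1 hv)) (congrArg Subtype.val (mem_cent.1 hgv))
  have hn := Subgroup.mem_normalizer_iff.1 hN (n : G)
  rw [mem_cent, mem_cent] at hn ⊢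
  exact ⟨fun e => Subtype.ext (hn.1 (congrArg Subtype.val e)),
    fun e => Subtype.ext (hn.2 (congrArg Subtype.val e))⟩

variable [Finite G]

/-- If all centralizers are normal, the group is nilpotent. -/
theorem nilpotent_of_normal (hN : ∀ x : G, (Subgroup.centralizer ({x} : Set G)).Normal) :
    Group.IsNilpotent G := by
  refine Perm.nilpotent_of_sylow_normal fun p hp P => ?_
  haveI := hp
  refine ⟨fun y hy g => ?_⟩
  have hcomm : ∀ a b : G, Commute (a * y * a⁻¹) (b * y * b⁻¹) := by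
    intro a b
    have h1 : (b⁻¹ * a) * y * (b⁻¹ * a)⁻¹ ∈ Subgroup.centralizer ({y} : Set G) :=
      (hN y).conj_mem y (mem_cent.2 rfl) _
    rw [mem_cent] at h1
    show _ = _
    calc a * y * a⁻¹ * (b * y * b⁻¹) = b * ((b⁻¹ * a) * y * (b⁻¹ * a)⁻¹ * y) * b⁻¹ := by group
      _ = b * (y * ((b⁻¹ * a) * y * (b⁻¹ * a)⁻¹)) * b⁻¹ := by rw [h1]
      _ = _ := by group
  let A := Subgroup.closure {t | ∃ a : G, t = a * y * a⁻¹}
  have hAn : A.Normal := by
    refine ⟨fun n hn c => ?_⟩
    induction hn using Subgroup.closure_induction with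
    | mem t ht =>
      obtain ⟨a, rfl⟩ := ht
      exact Subgroup.subset_closure ⟨c * a, by group⟩
    | one => simp
    | mul u v _ _ iu iv =>
      rw [show c * (u * v) * c⁻¹ = (c * u * c⁻¹) * (c * v * c⁻¹) by group]
      exact mul_mem iu iv
    | inv u _ iu =>
      rw [show c * u⁻¹ * c⁻¹ = (c * u * c⁻¹)⁻¹ by group]
      exact inv_mem iu
  have hAc : ∀ u ∈ A, ∀ v ∈ A, Commute u v := by
    intro u hu v hv
    induction hu, hv using Subgroup.closure_induction₂ with
    | mem u v hu hv =>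
      obtain ⟨a, rfl⟩ := hu
      obtain ⟨b, rfl⟩ := hv
      exact hcomm a b
    | one_left => exact Commute.one_left _
    | one_right => exact Commute.one_right _
    | mul_left _ _ _ _ _ _ h1 h2 => exact Commute.mul_left h1 h2
    | mul_right _ _ _ _ _ _ h1 h2 => exact Commute.mul_right h1 h2
    | inv_left _ _ _ _ h1 => exact Commute.inv_left h1
    | inv_right _ _ _ _ h1 => exact Commute.inv_right h1
  obtain ⟨k, hk⟩ := P.isPGroup' ⟨y, hy⟩
  have hyk : y ^ p ^ k = 1 := congrArg Subtype.val hk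
  have hAp : IsPGroup p A := by
    rintro ⟨u, hu⟩
    refine ⟨k, Subtype.ext ?_⟩
    show u ^ p ^ k = 1
    induction hu using Subgroup.closure_induction with
    | mem t ht =>
      obtain ⟨a, rfl⟩ := ht
      rw [conj_pow, hyk, mul_one, mul_inv_cancel]
    | one => simp
    | mul u v hu hv iu iv => rw [(hAc u hu v hv).mul_pow, iu, iv, mul_one]
    | inv u _ iu => rw [inv_pow, iu, inv_one]
  haveI := hAn
  exact P.3 (P.isPGroup'.to_sup_of_normal_right hAp) le_sup_left ▸
    Subgroup.mem_sup_right (Subgroup.subset_closure ⟨g, rfl⟩)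

theorem nilpotent_of_central (h : TI G) {z : G} (hz : ∀ g, g * z = z * g) (hz1 : z ≠ 1) :
    Group.IsNilpotent G := by
  refine nilpotent_of_normal fun x => ?_
  rw [← Subgroup.normalizer_eq_top_iff, eq_top_iff]
  intro g _
  refine cross h hz1 (hz x).symm ?_
  rw [hz g, mul_inv_cancel_right, ← hz x]

/-- Centralizers of non-identity elements are nilpotent. -/
theorem cent_nilpotent (h : TI G) {x : G} (hx : x ≠ 1) :
    Group.IsNilpotent (Subgroup.centralizer ({x} : Set G)) :=
  nilpotent_of_central (sub h _) (z := ⟨x, mem_cent.2 rfl⟩) (fun g => Subtype.ext (mem_cent.1 g.2))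
    fun e => hx (congrArg Subtype.val e)

theorem isCN (h : TI G) : Cfsg.IsCNGroup G := fun _ hx => cent_nilpotent h hx

/-- Two Sylow subgroups with a common non-identity element coincide. -/
theorem sylow_eq (h : TI G) {p : ℕ} [Fact p.Prime] {P Q : Sylow p G} {x : G} (hP : x ∈ P) (hQ : x ∈ Q)
    (hx : x ≠ 1) : P = Q := by
  by_contra hne
  exact hx (Subgroup.mem_bot.1 ((Cfsg.Agent.S4066.result h P Q hne).le ⟨hP, hQ⟩))

theorem exists_sylow_mem {p : ℕ} [Fact p.Prime] {x : G} (hx : ∃ k : ℕ, x ^ p ^ k = 1) :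
    ∃ P : Sylow p G, x ∈ P := by
  obtain ⟨k, hk⟩ := hx
  obtain ⟨j, -, hj⟩ := (Nat.dvd_prime_pow (Fact.out : p.Prime)).1 (orderOf_dvd_of_pow_eq_one hk)
  obtain ⟨P, hP⟩ := (IsPGroup.of_card (n := j) (by rw [Nat.card_zpowers, hj]) :
    IsPGroup p (Subgroup.zpowers x)).exists_le_sylow
  exact ⟨P, hP (Subgroup.mem_zpowers x)⟩

/-- A Sylow subgroup meeting a normal `p`-subgroup is normal. -/
theorem sylow_normal (h : TI G) {p : ℕ} [Fact p.Prime] (Q : Subgroup G) [Q.Normal] (hQ : IsPGroup p Q)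
    (hQ1 : Q ≠ ⊥) (P : Sylow p G) : (P : Subgroup G).Normal ∧ Q ≤ P := by
  have hle : ∀ R : Sylow p G, Q ≤ R := fun R =>
    R.3 (R.isPGroup'.to_sup_of_normal_right hQ) le_sup_left ▸ le_sup_right
  obtain ⟨⟨x, hx⟩, hx1⟩ := Subgroup.ne_bot_iff_exists_ne_one.1 hQ1
  have hall : ∀ R : Sylow p G, R = P := fun R =>
    sylow_eq h (hle R hx) (hle P hx) fun e => hx1 (Subtype.ext e)
  refine ⟨⟨fun y hy g => ?_⟩, hle P⟩
  have h1 : (g • P : Sylow p G) = P := hall _
  have h2 : g * y * g⁻¹ ∈ ((g • P : Sylow p G) : Subgroup G) :=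
    mem_conj_smul.2 (by simpa [mul_assoc] using hy)
  rwa [h1] at h2

/-- A subgroup all of whose prime power elements commute with `z` centralises `z`. -/
theorem le_cent {C : Subgroup G} {z : G}
    (hC : ∀ p : ℕ, p.Prime → ∀ y ∈ C, (∃ k : ℕ, y ^ p ^ k = 1) → y * z = z * y) :
    C ≤ Subgroup.centralizer ({z} : Set G) := by
  refine Subgroup.eq_of_le_of_card_ge (inf_le_left : C ⊓ Subgroup.centralizer ({z} : Set G) ≤ C) ?_ ▸ inf_le_right
  refine Nat.le_of_dvd Nat.card_pos ((Nat.dvd_iff_prime_pow_dvd_dvd _ _).2 fun p k hp hd => ?_)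
  haveI := Fact.mk hp
  obtain ⟨R⟩ : Nonempty (Sylow p C) := inferInstance
  refine (R.pow_dvd_card_of_pow_dvd_card hd).trans ?_
  rw [← Subgroup.card_map_of_injective (K := (R : Subgroup C)) C.subtype_injective]
  refine Subgroup.card_dvd_of_le ?_
  rintro _ ⟨y, hy, rfl⟩
  obtain ⟨j, hj⟩ := R.isPGroup' ⟨y, hy⟩
  exact ⟨y.2, mem_cent.2 (hC p hp y y.2 ⟨j, congrArg (fun w : (R : Subgroup C) => ((w : C) : G)) hj⟩)⟩

/-- A non-identity normal nilpotent subgroup yields a normal non-identity Sylow subgroup. -/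
theorem exists_normal_sylow (h : TI G) (N : Subgroup G) [N.Normal] (hN : Group.IsNilpotent N) (hN1 : N ≠ ⊥) :
    ∃ (p : ℕ) (_ : Fact p.Prime) (P : Sylow p G), (P : Subgroup G).Normal ∧ (P : Subgroup G) ≠ ⊥ := by
  obtain ⟨p, hp, hpd⟩ := Nat.exists_prime_and_dvd (n := Nat.card N)
    (fun e => hN1 ((Subgroup.card_eq_one).1 e))
  haveI := Fact.mk hp
  obtain ⟨R⟩ : Nonempty (Sylow p N) := inferInstance
  have hRn : (R : Subgroup N).Normal :=
    R.normal_of_normalizerCondition (haveI := hN; Group.normalizerCondition_of_isNilpotent)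
  haveI : (R : Subgroup N).Characteristic := R.characteristic_of_normal hRn
  obtain ⟨P⟩ : Nonempty (Sylow p G) := inferInstance
  have hR1 : (R : Subgroup N).map N.subtype ≠ ⊥ := fun e =>
    R.ne_bot_of_dvd_card hpd ((Subgroup.map_eq_bot_iff_of_injective _ N.subtype_injective).1 e)
  obtain ⟨h1, h2⟩ := sylow_normal h ((R : Subgroup N).map N.subtype) (R.isPGroup'.map _) hR1 P
  exact ⟨p, inferInstance, P, h1, fun e => hR1 (le_bot_iff.1 (e ▸ h2))⟩

end Cfsg.Agent.Solv.TICent
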