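import Cfsg.Agent.Lib.Solv.TICent.Ctx
import Cfsg.Agent.Lib.Solv.CNOddTheorem
import Cfsg.Agent.S0215

/-!
The involution centralizers of a TI-centralizer group without nilpotent normal subgroups.
-/

set_option autoImplicit false
set_option linter.style.haveILetI false
open Cfsg
open scoped Pointwise

namespace Cfsg.Agent.Solv.TICent

variable {G : Type*} [Group G] [Finite G]

theorem odd_normal (h : TI G) (hnil : ∀ N : Subgroup G, N.Normal → Group.IsNilpotent N → N = ⊥)
    (N : Subgroup G) (hN : N.Normal) (hodd : Odd (Nat.card N)) : N = ⊥ := by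
  by_contra hN1
  haveI := hN
  have hsol := isSolvable_of_odd_cn hodd (isCN (sub h N))
  obtain ⟨K, hKn, hK1, hKN, hKmin⟩ := exists_minimal_normal_le N hN1
  haveI := hKn
  obtain ⟨hKc, -⟩ := minimal_normal_elementaryAbelian K (isSolvable_of_le hKN hsol) hK1 hKmin
  letI : CommGroup K := { (inferInstance : Group K) with mul_comm := hKc.is_comm.comm }
  exact hK1 (hnil K hKn CommGroup.isNilpotent)

theorem invfix (h : TI G) (d u x : G) (hodd : Odd (orderOf d)) (huu : u * u = 1) (hud : u * d * u⁻¹ = d⁻¹)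
    (hx1 : x ≠ 1) (h1 : Commute d x) (h2 : Commute x u) : d * d = 1 := by
  have h3 : Commute d u := by
    have hle : Subgroup.zpowers d ≤ Subgroup.centralizer ({u} : Set G) := le_cent fun q hq y hy hyq => by
      haveI := Fact.mk hq
      haveI : Fact (Nat.Prime 2) := ⟨Nat.prime_two⟩
      by_cases hq2 : q = 2
      · subst hq2
        obtain ⟨j, hj⟩ := hyq
        have ho : orderOf y = 1 := by
          refine Nat.eq_one_of_dvd_coprimes ?_ (orderOf_dvd_of_mem_zpowers hy) (orderOf_dvd_of_pow_eq_one hj)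
          exact (Nat.coprime_two_right.2 hodd).pow_right j
        rw [orderOf_eq_one_iff.1 ho]; simp
      · refine OddLocal.CN.commute_in (cent_nilpotent h hx1) hq2 ?_ (mem_cent.2 h2.symm.eq) hyq
          ⟨1, by rw [pow_one, sq]; exact huu⟩
        exact (Subgroup.zpowers_le.2 (mem_cent.2 h1.eq)) hy
    exact mem_cent.1 (hle (Subgroup.mem_zpowers d))
  have h4 : u * d * u⁻¹ = d := mul_inv_eq_iff_eq_mul.2 h3.symm.eq
  exact inv_eq_iff_mul_eq_one.1 (hud.symm.trans h4)

theorem exists_sylow_pair {x y : G} (hx : x * x = 1) (hy : y * y = 1) (hc : x * y = y * x) :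
    ∃ S : Sylow 2 G, x ∈ S ∧ y ∈ S := by
  haveI : Fact (Nat.Prime 2) := ⟨Nat.prime_two⟩
  have hp : ∀ w : G, w * w = 1 → IsPGroup 2 (Subgroup.zpowers w) := by
    intro w hw
    by_cases hw1 : w = 1
    · subst hw1; exact IsPGroup.of_card (n := 0) (by simp)
    · exact IsPGroup.of_card (n := 1) (by
        rw [pow_one, Nat.card_zpowers]; exact orderOf_eq_prime (by rw [sq]; exact hw) hw1)
  have hle : Subgroup.zpowers x ≤ Subgroup.normalizer (Subgroup.zpowers y : Set G) :=
    (Subgroup.zpowers_le.2 (Subgroup.mem_centralizer_iff.2 fun w hw => by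
      obtain ⟨k, rfl⟩ := hw
      exact ((show Commute x y from hc).symm.zpow_left k).eq)).trans (Subgroup.centralizer_le_normalizer _)
  obtain ⟨S, hS⟩ := ((hp x hx).to_sup_of_normal_right' (hp y hy) hle).exists_le_sylow
  exact ⟨S, hS (Subgroup.mem_sup_left (Subgroup.mem_zpowers x)), hS (Subgroup.mem_sup_right (Subgroup.mem_zpowers y))⟩

theorem dihedral (x y : G) (hx : x * x = 1) (hy : y * y = 1) (hnc : ∀ g : G, g * x * g⁻¹ ≠ y) :
    ∃ w : G, w ≠ 1 ∧ w * w = 1 ∧ x * w = w * x ∧ y * w = w * y := by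
  obtain ⟨d, hd⟩ : ∃ d, d = y * x := ⟨_, rfl⟩
  have hxd : x * d * x = d⁻¹ := by
    rw [hd, mul_inv_rev, inv_eq_of_mul_eq_one_right hx, inv_eq_of_mul_eq_one_right hy,
      show x * (y * x) * x = x * y * (x * x) by group, hx, mul_one]
  have hxdk : ∀ k : ℕ, x * d ^ k * x = (d ^ k)⁻¹ := by
    intro k
    induction k with
    | zero => simp [hx]
    | succ k ih =>
      rw [show x * d ^ (k + 1) * x = (x * d ^ k * x) * (x * d * x) by
        rw [pow_succ, show x * d ^ k * x * (x * d * x) = x * d ^ k * (x * x) * d * x by group, hx]; group,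
        ih, hxd, ← mul_inv_rev, ← pow_succ']
  rcases Nat.even_or_odd (orderOf d) with ⟨k, hk⟩ | ⟨k, hk⟩
  · have hk0 : 0 < k := by have := orderOf_pos d; omega
    refine ⟨d ^ k, fun e => ?_, by rw [← pow_add, ← hk, pow_orderOf_eq_one], ?_, ?_⟩
    · have := orderOf_le_of_pow_eq_one hk0 e; omega
    all_goals have hv : (d ^ k)⁻¹ = d ^ k := inv_eq_of_mul_eq_one_right (by rw [← pow_add, ← hk, pow_orderOf_eq_one])
    all_goals have hxw : x * d ^ k = d ^ k * x := by
                have := hxdk k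
                rw [hv] at this
                calc x * d ^ k = x * d ^ k * x * x := by rw [mul_assoc, hx, mul_one]
                  _ = d ^ k * x := by rw [this]
    · exact hxw
    · have e : y = d * x := by rw [hd, mul_assoc, hx, mul_one]
      rw [e, mul_assoc d x, hxw, ← mul_assoc, ← mul_assoc, ← pow_succ', pow_succ]
  · exfalso
    refine hnc (d ^ (k + 1)) ?_
    have h1 : x * d ^ (k + 1) = (d ^ (k + 1))⁻¹ * x := by
      rw [← hxdk (k + 1), mul_assoc, hx, mul_one]
    rw [mul_assoc, show x * (d ^ (k + 1))⁻¹ = d ^ (k + 1) * x by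
      rw [← mul_right_inj x, ← mul_assoc, hx, one_mul, ← mul_assoc, h1, mul_assoc, hx, mul_one],
      ← mul_assoc, ← pow_add, show k + 1 + (k + 1) = orderOf d + 1 by omega, pow_succ, pow_orderOf_eq_one,
      one_mul, hd, mul_assoc, hx, mul_one]

variable (h : TI G) (hnil : ∀ N : Subgroup G, N.Normal → Group.IsNilpotent N → N = ⊥)

include h hnil

theorem exists_moving (S : Sylow 2 G) {x : G} (hx : x ∈ S) (hx1 : x ≠ 1) : ∃ g : G, g • S ≠ S := by
  by_contra hno
  push Not at hno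
  haveI : Fact (Nat.Prime 2) := ⟨Nat.prime_two⟩
  have hn : (S : Subgroup G).Normal := by
    refine ⟨fun y hy g => ?_⟩
    have h2 : g * y * g⁻¹ ∈ ((g • S : Sylow 2 G) : Subgroup G) := mem_conj_smul.2 (by simpa [mul_assoc] using hy)
    rwa [hno g] at h2
  exact hx1 (Subgroup.mem_bot.1 ((hnil _ hn S.isPGroup'.isNilpotent).le hx))

theorem one_class {x y : G} (hx : x * x = 1) (hx1 : x ≠ 1) (hy : y * y = 1) (hy1 : y ≠ 1) :
    ∃ g : G, g * x * g⁻¹ = y := by
  haveI : Fact (Nat.Prime 2) := ⟨Nat.prime_two⟩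
  obtain ⟨S, hxS, -⟩ := exists_sylow_pair hx hx (rfl)
  have key : ∀ {a b : G}, a * a = 1 → a ≠ 1 → b * b = 1 → a ∈ S → b ∉ S → ∃ g : G, g * a * g⁻¹ = b := by
    intro a b ha ha1 hb haS hbS
    by_contra hno
    push Not at hno
    obtain ⟨w, hw1, hww, haw, hbw⟩ := dihedral a b ha hb hno
    obtain ⟨T, haT, hwT⟩ := exists_sylow_pair ha hww haw
    obtain ⟨U, hbU, hwU⟩ := exists_sylow_pair hb hww hbw
    rw [sylow_eq h hwU hwT hw1, sylow_eq h haT haS ha1] at hbU
    exact hbS hbU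
  by_cases hyS : y ∈ S
  · obtain ⟨k, hk⟩ := exists_moving h hnil S hxS hx1
    have hmem : k * x * k⁻¹ ∈ ((k • S : Sylow 2 G) : Subgroup G) := mem_conj_smul.2 (by rw [show k⁻¹ * (k * x * k⁻¹) * k = x by group]; exact hxS)
    have hne : k * x * k⁻¹ ∉ S := fun e => hk (sylow_eq h hmem e (fun e' => hx1 (conj_eq_one_iff.1 e')))
    have hsq : k * x * k⁻¹ * (k * x * k⁻¹) = 1 := by
      rw [show k * x * k⁻¹ * (k * x * k⁻¹) = k * (x * x) * k⁻¹ by group, hx]; group
    obtain ⟨g, hg⟩ := key hy hy1 hsq hyS hne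
    exact ⟨g⁻¹ * k, by
      rw [show g⁻¹ * k * x * (g⁻¹ * k)⁻¹ = g⁻¹ * (k * x * k⁻¹) * g by group, ← hg]; group⟩
  · exact key hx hx1 hy hxS hyS

theorem central_invol (S : Sylow 2 G) {x : G} (hxS : x ∈ S) (hx : x * x = 1) (hx1 : x ≠ 1) :
    ∀ y ∈ S, y * x = x * y := by
  haveI : Fact (Nat.Prime 2) := ⟨Nat.prime_two⟩
  haveI : Nontrivial (S : Subgroup G) := ⟨⟨⟨x, hxS⟩, 1, fun e => hx1 (congrArg Subtype.val e)⟩⟩
  haveI := S.isPGroup'.center_nontrivial
  obtain ⟨n, hn, e⟩ :=
    ((S.isPGroup'.to_subgroup (Subgroup.center (S : Subgroup G))).nontrivial_iff_card).1 inferInstance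
  obtain ⟨⟨⟨z, hzS⟩, hzc⟩, hzo⟩ := exists_prime_orderOf_dvd_card' (G := Subgroup.center (S : Subgroup G)) 2
    (by rw [e]; exact dvd_pow_self 2 hn.ne')
  rw [Subgroup.orderOf_mk, Subgroup.orderOf_mk] at hzo
  have hz1 : z ≠ 1 := fun e => by rw [e, orderOf_one] at hzo; omega
  obtain ⟨g, hg⟩ := one_class h hnil (x := z) (y := x) (by rw [← sq, ← hzo]; exact pow_orderOf_eq_one z) hz1 hx hx1
  have hxg : x ∈ ((g • S : Sylow 2 G) : Subgroup G) := hg ▸ mem_conj_smul.2 (by simpa [mul_assoc] using hzS)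
  intro y hy
  have hy' : y ∈ ((g • S : Sylow 2 G) : Subgroup G) := by rwa [sylow_eq h hxg hxS hx1]
  have hyS : g⁻¹ * y * g ∈ (S : Subgroup G) := mem_conj_smul.1 hy'
  have hc : (g⁻¹ * y * g) * z = z * (g⁻¹ * y * g) :=
    congrArg Subtype.val (Subgroup.mem_center_iff.1 hzc ⟨_, hyS⟩)
  calc y * x = g * ((g⁻¹ * y * g) * z) * g⁻¹ := by rw [← hg]; group
    _ = g * (z * (g⁻¹ * y * g)) * g⁻¹ := by rw [hc]
    _ = x * y := by rw [← hg]; group

/-- The centralizer of an involution gives the combinatorial setting. -/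
theorem exists_ctx {z : G} (hz : z * z = 1) (hz1 : z ≠ 1) :
    Ctx (Subgroup.centralizer ({z} : Set G)) := by
  haveI : Fact (Nat.Prime 2) := ⟨Nat.prime_two⟩
  obtain ⟨S, hzS, -⟩ := exists_sylow_pair hz hz rfl
  obtain ⟨A, hAdef⟩ : ∃ A, A = Subgroup.centralizer ({z} : Set G) := ⟨_, rfl⟩
  rw [← hAdef]
  have hA : ∀ x, x ∈ A ↔ x * z = z * x := fun x => by rw [hAdef, mem_cent]
  have hzA : z ∈ A := (hA z).2 rfl
  have hSA : ∀ y ∈ S, y ∈ A := fun y hy => (hA y).2 (central_invol h hnil S hzS hz hz1 y hy)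
  have hinS : ∀ t ∈ A, t * t = 1 → t ∈ S := by
    intro t ht htt
    obtain ⟨T, htT, hzT⟩ := exists_sylow_pair htt hz ((hA t).1 ht)
    rwa [sylow_eq h hzT hzS hz1] at htT
  have hTI : ∀ a ∈ A, a ≠ 1 → ∀ g : G, g * a * g⁻¹ ∈ A → g ∈ Hn A := by
    intro a ha ha1 g hg
    by_contra hn
    rw [Hn, hAdef] at hn
    rw [hAdef] at ha hg
    exact ha1 (h z g hn a ha hg)
  have hinvH : ∀ s ∈ Hn A, s * s = 1 → s ∈ A := by
    intro s hs hss
    have hsi : s⁻¹ = s := inv_eq_of_mul_eq_one_right hss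
    have hw : s * z * s ∈ A := by have := conj_A hs hzA; rwa [hsi] at this
    have hww : s * z * s * (s * z * s) = 1 := by
      rw [show s * z * s * (s * z * s) = s * z * (s * s) * z * s by group, hss, mul_one,
        show s * z * z * s = s * (z * z) * s by group, hz, mul_one, hss]
    have hwS := hinS _ hw hww
    have hwz : z * (s * z * s) = (s * z * s) * z := ((hA _).1 hw).symm
    by_cases h1 : z * (s * z * s) = 1
    · refine (hA s).2 ?_
      have h2 : s * z * s = z := by rw [← inv_eq_of_mul_eq_one_right h1, inv_eq_of_mul_eq_one_right hz]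
      calc s * z = s * z * (s * s) := by rw [hss, mul_one]
        _ = s * z * s * s := by group
        _ = z * s := by rw [h2]
    · have hsv : s * (z * (s * z * s)) = (z * (s * z * s)) * s := by
        rw [show s * (z * (s * z * s)) = (s * z * s) * z * s by group, ← hwz]
      have hvv : z * (s * z * s) * (z * (s * z * s)) = 1 := by
        rw [show z * (s * z * s) * (z * (s * z * s)) = z * ((s * z * s) * z) * (s * z * s) by group, ← hwz,
          show z * (z * (s * z * s)) * (s * z * s) = (z * z) * ((s * z * s) * (s * z * s)) by group, hz, hww, one_mul]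
      obtain ⟨T, hsT, hvT⟩ := exists_sylow_pair hss hvv hsv
      rw [sylow_eq h hvT (mul_mem hzS hwS : z * (s * z * s) ∈ (S : Subgroup G)) h1] at hsT
      exact hSA s hsT
  refine ⟨invfix h, ⟨z, hzA, hz, hz1⟩, ?_, ?_, hTI, hinvH, ?_, ?_, odd_normal h hnil⟩
  · -- the centralizers of all involutions of `A`
    intro t ht htt ht1 x
    obtain ⟨g, hg⟩ := one_class h hnil hz hz1 htt ht1
    have hgn := hTI z hzA hz1 g (hg.symm ▸ ht)
    have h1 := Subgroup.mem_normalizer_iff.1 hgn (g⁻¹ * x * g)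
    rw [show g * (g⁻¹ * x * g) * g⁻¹ = x by group] at h1
    rw [← h1, hA]
    constructor
    · intro hc
      calc x * t = g * (g⁻¹ * x * g * z) * g⁻¹ := by rw [← hg]; group
        _ = g * (z * (g⁻¹ * x * g)) * g⁻¹ := by rw [hc]
        _ = t * x := by rw [← hg]; group
    · intro hc
      calc g⁻¹ * x * g * z = g⁻¹ * (x * t) * g := by rw [← hg]; group
        _ = g⁻¹ * (t * x) * g := by rw [hc]
        _ = z * (g⁻¹ * x * g) := by rw [← hg]; group
  · -- centralizers of elements of `A`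
    intro a ha ha1 g hg
    obtain ⟨C, hC⟩ : ∃ C, C = Subgroup.centralizer ({a} : Set G) := ⟨_, rfl⟩
    have hCn : Group.IsNilpotent C := hC ▸ cent_nilpotent h ha1
    have hzC : z ∈ C := by rw [hC, mem_cent]; exact ((hA a).1 ha).symm
    have hle : C ≤ Subgroup.centralizer ({z} : Set G) := by
      refine le_cent fun q hq y hy hyq => ?_
      haveI := Fact.mk hq
      by_cases hq2 : q = 2
      · subst hq2
        obtain ⟨R⟩ : Nonempty (Sylow 2 C) := inferInstance
        haveI hRn : (R : Subgroup C).Normal :=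
          R.normal_of_normalizerCondition (haveI := hCn; Group.normalizerCondition_of_isNilpotent)
        haveI : Unique (Sylow 2 C) := Sylow.unique_of_normal R hRn
        have hmem : ∀ w (hw : w ∈ C), (∃ k : ℕ, w ^ 2 ^ k = 1) → w ∈ (R : Subgroup C).map C.subtype := by
          intro w hw ⟨k, hk⟩
          obtain ⟨T, hT⟩ := exists_sylow_mem (p := 2) (x := (⟨w, hw⟩ : C)) ⟨k, Subtype.ext (by simpa using hk)⟩
          exact ⟨⟨w, hw⟩, Subsingleton.elim T R ▸ hT, rfl⟩
        obtain ⟨T, hT⟩ := (R.isPGroup'.map C.subtype).exists_le_sylow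
        have hzT := hT (hmem z hzC ⟨1, by rw [pow_one, sq]; exact hz⟩)
        have hyT := hT (hmem y hy hyq)
        rw [sylow_eq h hzT hzS hz1] at hyT
        exact central_invol h hnil S hzS hz hz1 y hyT
      · exact OddLocal.CN.commute_in hCn hq2 hy hzC hyq ⟨1, by rw [pow_one, sq]; exact hz⟩
    exact (hA g).2 (mem_cent.1 (hle (by rw [hC, mem_cent]; exact hg)))
  · obtain ⟨g, hg⟩ := exists_moving h hnil S hzS hz1
    have hmem : g * z * g⁻¹ ∈ ((g • S : Sylow 2 G) : Subgroup G) := mem_conj_smul.2 (by rw [show g⁻¹ * (g * z * g⁻¹) * g = z by group]; exact hzS)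
    have hsq : g * z * g⁻¹ * (g * z * g⁻¹) = 1 := by
      rw [show g * z * g⁻¹ * (g * z * g⁻¹) = g * (z * z) * g⁻¹ by group, hz]; group
    exact ⟨_, hsq, fun hH => hg (sylow_eq h hmem (hinS _ (hinvH _ hH hsq) hsq)
      fun e => hz1 (conj_eq_one_iff.1 e))⟩
  · by_contra hlt
    haveI : Nonempty (Inv A) := ⟨⟨z, hzA, hz, hz1⟩⟩
    have hm1 : Nat.card (Inv A) = 1 := by have := Nat.card_pos (α := Inv A); omega
    haveI := (Nat.card_eq_one_iff_unique.1 hm1).1
    obtain ⟨N, hN, hodd, hNz⟩ := Cfsg.Agent.S0215.result S z (orderOf_eq_prime (by rw [sq]; exact hz) hz1) hzS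
      (fun g hg => congrArg Subtype.val (Subsingleton.elim
        (⟨g * z * g⁻¹, hSA _ hg, by rw [show g * z * g⁻¹ * (g * z * g⁻¹) = g * (z * z) * g⁻¹ by group, hz]; group,
          fun e => hz1 (conj_eq_one_iff.1 e)⟩ : Inv A) ⟨z, hzA, hz, hz1⟩))
    have hN1 := odd_normal h hnil N hN hodd
    have hzc : ∀ g, g * z = z * g := fun g => by
      have := hNz g
      rw [hN1, Subgroup.mem_bot, mul_inv_eq_one, mul_inv_eq_iff_eq_mul] at this
      exact this.symm
    have htop := hnil ⊤ inferInstance (Group.isNilpotent_top.2 (nilpotent_of_central h hzc hz1))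
    exact hz1 (Subgroup.mem_bot.1 (htop.le (Subgroup.mem_top z)))

end Cfsg.Agent.Solv.TICent
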