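import Cfsg.Agent.Lib.Solv.TICent.Basic
import Cfsg.Agent.Lib.Solv.FrobeniusGK
import Cfsg.Agent.Lib.Solv.FrobeniusFPF
import Cfsg.Agent.Lib.Perm.Fpf.Entry
import Cfsg.Agent.Lib.Solv.UniqueSub
import Cfsg.Agent.Lib.Solv.CNOddTheorem

/-!
Groups with TI element centralizers and a normal nilpotent subgroup.
-/

set_option autoImplicit false
set_option linter.style.haveILetI false
open Cfsg
open scoped Pointwise

namespace Cfsg.Agent.Solv.TICent

variable {G : Type*} [Group G] [Finite G]

theorem frob (h : TI G) (N : Subgroup G) [N.Normal] (hN : Group.IsNilpotent N) (hN1 : N ≠ ⊥)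
    (hnn : ¬ Group.IsNilpotent G) :
    ∃ (H V : Subgroup G), IsFrobeniusComplement H ∧ V.Normal ∧ V ≠ ⊥ ∧ IsMulCommutative V ∧
      ∀ x ∈ H, x ≠ 1 → V ⊓ Subgroup.centralizer {x} = ⊥ := by
  obtain ⟨p, hp, P, hPn, hP1⟩ := exists_normal_sylow h N hN hN1
  haveI := hp; haveI := hPn
  haveI : Nontrivial (P : Subgroup G) := (Subgroup.nontrivial_iff_ne_bot _).2 hP1
  haveI := P.isPGroup'.center_nontrivial
  obtain ⟨⟨⟨z, hzP⟩, hzc⟩, hz1'⟩ := exists_ne (1 : Subgroup.center (P : Subgroup G))
  have hz1 : z ≠ 1 := fun e => hz1' (Subtype.ext (Subtype.ext e))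
  have hzP' : ∀ y ∈ (P : Subgroup G), y * z = z * y := fun y hy =>
    congrArg Subtype.val (Subgroup.mem_center_iff.1 hzc ⟨y, hy⟩)
  obtain ⟨zp, hzp⟩ : ∃ k : ℕ, z ^ p ^ k = 1 := by
    obtain ⟨k, hk⟩ := P.isPGroup' ⟨z, hzP⟩
    exact ⟨k, congrArg Subtype.val hk⟩
  obtain ⟨F, hFdef⟩ : ∃ F, F = Subgroup.centralizer ({z} : Set G) := ⟨_, rfl⟩
  have hF : ∀ x, x ∈ F ↔ x * z = z * x := fun x => by rw [hFdef, mem_cent]
  have hPF : (P : Subgroup G) ≤ F := fun y hy => (hF y).2 (hzP' y hy)
  have hzn : ∀ g : G, g * z * g⁻¹ ∈ (P : Subgroup G) := fun g => hPn.conj_mem z hzP g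
  haveI hFn : F.Normal := by
    rw [← Subgroup.normalizer_eq_top_iff, eq_top_iff]
    intro g _
    rw [hFdef]
    exact cross h hz1 rfl (hzP' _ (hzn g))
  have hFnil : Group.IsNilpotent F := hFdef ▸ cent_nilpotent h hz1
  -- the centre of `F`
  let V : Subgroup G := (Subgroup.center F).map F.subtype
  haveI hVn : V.Normal := inferInstance
  have hzV : z ∈ V := ⟨⟨z, (hF z).2 rfl⟩, Subgroup.mem_center_iff.2 fun y => Subtype.ext ((hF y).1 y.2), rfl⟩
  have hV1 : V ≠ ⊥ := fun e => hz1 (Subgroup.mem_bot.1 (e ▸ hzV))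
  have hVc : IsMulCommutative V := inferInstance
  have hVcomm : ∀ v ∈ V, ∀ y ∈ F, y * v = v * y := by
    rintro _ ⟨v, hv, rfl⟩ y hy
    exact congrArg Subtype.val (Subgroup.mem_center_iff.1 hv ⟨y, hy⟩)
  -- centralisers inside
  have hsmall : ∀ a ∈ F, a ≠ 1 → ∀ x : G, x * a = a * x → x ∈ F := by
    intro a ha ha1
    obtain ⟨C, hC⟩ : ∃ C, C = Subgroup.centralizer ({a} : Set G) := ⟨_, rfl⟩
    haveI hCn : C.Normal := by
      rw [← Subgroup.normalizer_eq_top_iff, eq_top_iff]
      intro g _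
      rw [hC]
      exact cross h hz1 (hVcomm z hzV a ha).symm (hVcomm _ (hVn.conj_mem z hzV g) a ha).symm
    have hCnil : Group.IsNilpotent C := hC ▸ cent_nilpotent h ha1
    have hle : C ≤ Subgroup.centralizer ({z} : Set G) := by
      refine le_cent fun q hq y hy hyq => ?_
      haveI := Fact.mk hq
      by_cases hqp : q = p
      · subst hqp
        obtain ⟨R, hR⟩ := exists_sylow_mem hyq
        haveI : Unique (Sylow q G) := Sylow.unique_of_normal P hPn
        exact hzP' y (Subsingleton.elim R P ▸ hR)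
      · exact OddLocal.CN.commute_in hCnil hqp hy (by rw [hC, mem_cent]; exact (hVcomm z hzV a ha).symm)
          hyq ⟨zp, hzp⟩
    intro x hx
    rw [hFdef]
    exact hle (by rw [hC, mem_cent]; exact hx)
  have hFtop : F ≠ ⊤ := fun e => hnn (nilpotent_of_central h (fun g => (hF g).1 (e ▸ Subgroup.mem_top g)) hz1)
  have hFbot : F ≠ ⊥ := fun e => hz1 (Subgroup.mem_bot.1 (e ▸ (hF z).2 rfl))
  have hcop : (Nat.card F).Coprime F.index := by
    rw [Nat.coprime_iff_gcd_eq_one]
    by_contra hne
    obtain ⟨q, hq, hqd⟩ := Nat.exists_prime_and_dvd hne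
    haveI := Fact.mk hq
    obtain ⟨R⟩ : Nonempty (Sylow q F) := inferInstance
    have hRn : (R : Subgroup F).Normal :=
      R.normal_of_normalizerCondition (haveI := hFnil; Group.normalizerCondition_of_isNilpotent)
    haveI : (R : Subgroup F).Characteristic := R.characteristic_of_normal hRn
    obtain ⟨Q⟩ : Nonempty (Sylow q G) := inferInstance
    obtain ⟨hQn, hRQ⟩ := sylow_normal h ((R : Subgroup F).map F.subtype) (R.isPGroup'.map _)
      (fun e => R.ne_bot_of_dvd_card (hqd.trans (Nat.gcd_dvd_left _ _))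
        ((Subgroup.map_eq_bot_iff_of_injective _ F.subtype_injective).1 e)) Q
    have hQF : (Q : Subgroup G) ≤ F := by
      by_cases hqp : q = p
      · subst hqp
        haveI : Unique (Sylow q G) := Sylow.unique_of_normal P hPn
        exact Subsingleton.elim P Q ▸ hPF
      · intro y hy
        haveI := hQn
        have hd : Disjoint (Q : Subgroup G) (P : Subgroup G) :=
          IsPGroup.disjoint_of_ne q p hqp _ _ Q.isPGroup' P.isPGroup'
        exact (hF y).2 (Subgroup.commute_of_normal_of_disjoint _ _ hQn hPn hd y z hy hzP).eq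
    exact Q.not_dvd_index ((hqd.trans (Nat.gcd_dvd_right _ _)).trans (Subgroup.index_dvd_of_le hQF))
  obtain ⟨H, hH⟩ := Subgroup.exists_right_complement'_of_coprime (N := F) hcop
  have hH1 : H ≠ ⊥ := fun e => hFtop (Subgroup.isComplement'_bot_right.1 (e ▸ hH))
  have hHF : ∀ x ∈ H, x ∈ F → x = 1 := fun x hx hxF => Subgroup.mem_bot.1 (hH.disjoint.eq_bot ▸ ⟨hxF, hx⟩)
  have hfpf : ∀ x ∈ H, x ≠ 1 → F ⊓ Subgroup.centralizer {x} = ⊥ := by
    intro x hx hx1
    rw [eq_bot_iff]
    rintro a ⟨ha, hax⟩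
    by_contra ha1
    exact hx1 (hHF x hx (hsmall a ha ha1 x (mem_cent.1 hax).symm))
  obtain ⟨hfc, -⟩ := frob_of_fpf_complement hH hFbot hH1 hfpf
  refine ⟨H, V, hfc, hVn, hV1, hVc, fun x hx hx1 => eq_bot_iff.2 ?_⟩
  rw [← hfpf x hx hx1]
  exact inf_le_inf_right _ (Subgroup.map_subtype_le _)

/-- A Frobenius complement in a group with TI centralizers is nilpotent. -/
theorem complement_nilpotent (h : TI G) {H V : Subgroup G} (hH : IsFrobeniusComplement H) [V.Normal]
    (hV1 : V ≠ ⊥) [IsMulCommutative V] (hfpf : ∀ x ∈ H, x ≠ 1 → V ⊓ Subgroup.centralizer {x} = ⊥) :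
    Group.IsNilpotent H := by
  rcases Nat.even_or_odd (Nat.card H) with he | ho
  · haveI : Fact (Nat.Prime 2) := ⟨Nat.prime_two⟩
    obtain ⟨t, ht⟩ := exists_prime_orderOf_dvd_card' 2 (even_iff_two_dvd.1 he)
    have ht1 : t ≠ 1 := fun e => by rw [e, orderOf_one] at ht; omega
    refine (Perm.Fpf.hasFpf_of_frobenius hH).elim fun ρ hρ => ?_
    exact nilpotent_of_central (sub h H) (hρ.involution_central ht1 (ht ▸ pow_orderOf_eq_one t)) ht1
  · by_contra hnn
    haveI : Nontrivial H := (Subgroup.nontrivial_iff_ne_bot H).2 hH.1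
    have hsol := isSolvable_of_odd_cn ho (isCN (sub h H))
    obtain ⟨M, hMn, hM1, hMmin⟩ := Solv.exists_minimal_normal (G := H)
    haveI := hMn; haveI := hsol
    obtain ⟨hMc, -⟩ := minimal_normal_elementaryAbelian M inferInstance hM1 hMmin
    haveI := hMc
    letI : CommGroup M := { (inferInstance : Group M) with mul_comm := hMc.is_comm.comm }
    have hMnil : Group.IsNilpotent M := CommGroup.isNilpotent
    obtain ⟨D, -, hD, -⟩ := frob (sub h H) M hMnil hM1 hnn
    exact fpf_not_frobenius hV1 (by rw [Subgroup.normalizer_eq_top_iff.2 inferInstance]; exact le_top) hfpf D hD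

/-- A nilpotent fixed-point-free group with TI centralizers is cyclic or `C × Q₈` with `C` cyclic of odd order. -/
theorem complement_shape (h : TI G) {H : Subgroup G} (hH : IsFrobeniusComplement H) (hn : Group.IsNilpotent H) :
    IsCyclic H ∨ ∃ m : ℕ, Odd m ∧ Nonempty (H ≃* Multiplicative (ZMod m) × QuaternionGroup 2) := by
  haveI := hn
  haveI : Fact (Nat.Prime 2) := ⟨Nat.prime_two⟩
  refine (Perm.Fpf.hasFpf_of_frobenius hH).elim fun ρ hρ => ?_
  obtain ⟨P⟩ : Nonempty (Sylow 2 H) := inferInstance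
  haveI hPn : (P : Subgroup H).Normal :=
    P.normal_of_normalizerCondition Group.normalizerCondition_of_isNilpotent
  by_cases hc : IsCyclic (P : Subgroup H)
  · left
    haveI : IsZGroup H := ⟨fun p hp R => by
      haveI := Fact.mk hp
      by_cases hp2 : p = 2
      · subst hp2
        haveI : Unique (Sylow 2 H) := Sylow.unique_of_normal P hPn
        exact Subsingleton.elim P R ▸ hc
      · exact hρ.isCyclic_of_odd hp2 _ R.isPGroup'⟩
    infer_instance
  · right
    obtain ⟨-, k, ⟨e⟩⟩ := (hρ.isCyclic_or_quaternion (P : Subgroup H) P.isPGroup').resolve_left hc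
    obtain ⟨z, hzo⟩ : ∃ z : H, orderOf z = 2 := by
      refine exists_prime_orderOf_dvd_card' 2 (dvd_trans ?_ (Subgroup.card_subgroup_dvd_card (P : Subgroup H)))
      rw [Nat.card_congr e.toEquiv, Nat.card_eq_fintype_card, QuaternionGroup.card]
      exact (dvd_mul_right 2 2).trans (dvd_mul_right 4 _)
    have hz1 : z ≠ 1 := fun e' => by rw [e', orderOf_one] at hzo; omega
    have hzc : z ∈ Subgroup.center H := Subgroup.mem_center_iff.2
      (hρ.involution_central hz1 (hzo ▸ pow_orderOf_eq_one z))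
    -- all conjugates of an element commute
    have hconj : ∀ y g : H, Commute (g * y * g⁻¹) y := fun y g => by
      have hn' := cross (sub h H) (c := y) (w := z) (g := g) hz1
        (Subgroup.mem_center_iff.1 hzc y).symm (by
          rw [Subgroup.mem_center_iff.1 hzc g, mul_inv_cancel_right, ← Subgroup.mem_center_iff.1 hzc y])
      exact mem_cent.1 ((Subgroup.mem_normalizer_iff.1 hn' y).1 (mem_cent.2 rfl))
    obtain ⟨n, hn'⟩ : ∃ n : ℕ, n = 2 ^ k := ⟨_, rfl⟩
    subst hn'
    have hq : Commute (QuaternionGroup.a (1 : ZMod (2 * 2 ^ k)) * QuaternionGroup.xa 0 * (QuaternionGroup.a 1)⁻¹)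
        (QuaternionGroup.xa 0) := by
      have h1 := hconj (e.symm (QuaternionGroup.xa 0) : H) (e.symm (QuaternionGroup.a 1) : H)
      have h2 : Commute ((e.symm (QuaternionGroup.a 1)) * (e.symm (QuaternionGroup.xa 0)) * (e.symm (QuaternionGroup.a 1))⁻¹)
          (e.symm (QuaternionGroup.xa 0)) := Subtype.ext h1.eq
      simpa using h2.map e
    have hk4 : (4 : ZMod (2 * 2 ^ k)) = 0 := by
      rw [show (QuaternionGroup.a (1 : ZMod (2 * 2 ^ k)))⁻¹ = QuaternionGroup.a (-1) from rfl] at hq
      have := hq.eq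
      simp only [QuaternionGroup.a_mul_xa, QuaternionGroup.xa_mul_a, QuaternionGroup.xa_mul_xa,
        QuaternionGroup.a.injEq] at this
      linear_combination this
    have hk : k ≤ 1 := by
      rw [show (4 : ZMod (2 * 2 ^ k)) = ((4 : ℕ) : ZMod (2 * 2 ^ k)) by norm_num,
        ZMod.natCast_eq_zero_iff, ← pow_succ'] at hk4
      have := (Nat.pow_dvd_pow_iff_le_right (x := 2) (by norm_num)).1 (show 2 ^ (k + 1) ∣ 2 ^ 2 from hk4)
      omega
    -- the odd complement
    obtain ⟨O, hO⟩ := Subgroup.exists_right_complement'_of_coprime (N := (P : Subgroup H)) P.card_coprime_index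
    have hOodd : Odd (Nat.card O) := by
      rw [← hO.symm.index_eq_card, Nat.odd_iff, ← Nat.two_dvd_ne_zero]
      exact P.not_dvd_index
    haveI : IsZGroup O := ⟨fun p hp R => by
      haveI := Fact.mk hp
      by_cases hp2 : p = 2
      · subst hp2
        have hR : (R : Subgroup O) = ⊥ := by
          refine Subgroup.card_eq_one.1 ?_
          obtain ⟨j, hj⟩ := IsPGroup.iff_card.1 R.isPGroup'
          rcases j with _ | j
          · simpa using hj
          · exact absurd ((dvd_pow_self 2 (Nat.succ_ne_zero j)).trans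
              (hj ▸ Subgroup.card_subgroup_dvd_card _)) (fun hd => by
                rw [← even_iff_two_dvd] at hd; exact Nat.not_even_iff_odd.2 hOodd hd)
        rw [hR]; infer_instance
      · haveI := hρ.isCyclic_of_odd hp2 ((R : Subgroup O).map O.subtype) (R.isPGroup'.map _)
        exact isCyclic_of_injective (f := (Subgroup.equivMapOfInjective (R : Subgroup O) O.subtype
          O.subtype_injective).toMonoidHom) (MulEquiv.injective _)⟩
    haveI : IsCyclic O := inferInstance
    have hcom : ∀ (o : O) (y : (P : Subgroup H)), Commute (o : H) (y : H) := fun o y => by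
      have hle : O ≤ Subgroup.centralizer ({(y : H)} : Set H) := le_cent fun q hq w hw hwq => by
        haveI := Fact.mk hq
        by_cases hq2 : q = 2
        · subst hq2
          obtain ⟨R, hR⟩ := exists_sylow_mem hwq
          haveI : Unique (Sylow 2 H) := Sylow.unique_of_normal P hPn
          have hwP : w ∈ (P : Subgroup H) := Subsingleton.elim R P ▸ hR
          rw [Subgroup.mem_bot.1 (hO.disjoint.eq_bot ▸ ⟨hwP, hw⟩ : w ∈ (⊥ : Subgroup H))]
          simp
        · obtain ⟨j, hj⟩ := P.isPGroup' y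
          exact OddLocal.CN.commute_in (H := (⊤ : Subgroup H))
            (Group.nilpotent_of_mulEquiv (Subgroup.topEquiv (G := H)).symm) hq2
            (Subgroup.mem_top w) (Subgroup.mem_top _) hwq ⟨j, congrArg Subtype.val hj⟩
      exact mem_cent.1 (hle o.2)
    let φ : O × (P : Subgroup H) →* H := MonoidHom.noncommCoprod O.subtype (P : Subgroup H).subtype hcom
    have hφ : Function.Bijective φ := hO.symm
    obtain ⟨eO⟩ : Nonempty (Multiplicative (ZMod (Nat.card O)) ≃* O) :=
      ⟨zmodCyclicMulEquiv inferInstance⟩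
    rcases Nat.le_one_iff_eq_zero_or_eq_one.1 hk with rfl | rfl
    · haveI : IsCyclic (QuaternionGroup (2 ^ 0)) := QuaternionGroup.quaternionGroup_one_isCyclic
      exact absurd (isCyclic_of_injective (f := (e.toMonoidHom)) e.injective) hc
    · exact ⟨Nat.card O, hOodd, ⟨((eO.prodCongr e.symm).trans (MulEquiv.ofBijective φ hφ)).symm⟩⟩

end Cfsg.Agent.Solv.TICent
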