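import Cfsg.Agent.Lib.Solv.TICent.Action
import Cfsg.Agent.Lib.Solv.TICent.Deriv
import Cfsg.Agent.Lib.Lie.ZassenhausSuzuki.Main
import Cfsg.Agent.Lib.Lie.Feit.Main

/-!
Involution centralizers are elementary abelian.
-/

set_option autoImplicit false
set_option linter.style.haveILetI false
set_option linter.unusedSectionVars false
open Cfsg

namespace Cfsg.Agent.Solv.TICent

universe u

variable {G : Type u} [Group G] [Finite G]

/-- The group of involutions of `A`. -/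
def invGroup {A : Subgroup G} (hC : Ctx A) : Subgroup G where
  carrier := {a | a ∈ A ∧ a * a = 1}
  one_mem' := ⟨one_mem A, mul_one 1⟩
  mul_mem' := fun {a b} ha hb => ⟨mul_mem ha.1 hb.1, by
    rw [show a * b * (a * b) = a * (b * a) * b by group, tcomm hC ha.1 ha.2 hb.1,
      show a * (a * b) * b = (a * a) * (b * b) by group, ha.2, hb.2, one_mul]⟩
  inv_mem' := fun {a} ha => ⟨inv_mem ha.1, by rw [← mul_inv_rev, ha.2, inv_one]⟩

theorem card_invGroup {A : Subgroup G} (hC : Ctx A) : Nat.card (invGroup hC) = Nat.card (Inv A) + 1 := by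
  classical
  have e : Option (Inv A) ≃ invGroup hC := by
    refine Equiv.ofBijective (fun o => o.elim 1 fun s => ⟨s.1, s.2.1, s.2.2.1⟩) ⟨?_, ?_⟩
    · rintro (_ | s) (_ | s') h
      · rfl
      · exact absurd (congrArg Subtype.val h).symm s'.2.2.2
      · exact absurd (congrArg Subtype.val h) s.2.2.2
      · exact congrArg some (Subtype.ext (congrArg (fun z : invGroup hC => (z : G)) h))
    · rintro ⟨a, ha⟩
      by_cases ha1 : a = 1
      · exact ⟨none, Subtype.ext ha1.symm⟩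
      · exact ⟨some ⟨a, ha.1, ha.2, ha1⟩, rfl⟩
  rw [← Nat.card_congr e, Finite.card_option]

/-- A Suzuki-type kernel contradicts the TI condition. -/
theorem false_of_square (h : TI G) {A : Subgroup G} (hC : Ctx A)
    (hsq : Nat.card A = (Nat.card (Inv A) + 1) ^ 2) (hna : ∃ x y : A, x * y ≠ y * x) : False := by
  classical
  obtain ⟨v, hvv, hvH⟩ := exists_invol_outside hC
  obtain ⟨t, ht, htt, ht1⟩ := hC.exInv
  set K := invGroup hC with hK
  have hKA : ∀ k ∈ K, k ∈ A := fun k hk => hk.1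
  have hKc : ∀ k ∈ K, ∀ a ∈ A, a * k = k * a := fun k hk a ha => tcomm hC hk.1 hk.2 ha
  have hKconj : ∀ g ∈ Hn A, ∀ k ∈ K, g * k * g⁻¹ ∈ K := fun g hg k hk =>
    ⟨conj_A hg hk.1, by rw [show g * k * g⁻¹ * (g * k * g⁻¹) = g * (k * k) * g⁻¹ by group, hk.2]; group⟩
  have hfix : ∀ f ∈ Dg A v, ∀ x ∈ A, x ∉ K → x⁻¹ * (f * x * f⁻¹) ∈ K → f = 1 := by
    intro f hf x hx hxK hk0
    by_contra hf1
    have hfH := (mem_Dg.1 hf).1
    have hinj : Function.Injective (fun k : K => (⟨(k : G)⁻¹ * (f * k * f⁻¹),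
        mul_mem (inv_mem k.2) (hKconj f hfH k k.2)⟩ : K)) := by
      intro a b e
      have e1 : (a : G)⁻¹ * (f * a * f⁻¹) = (b : G)⁻¹ * (f * b * f⁻¹) := congrArg Subtype.val e
      have hc := hKc _ (inv_mem b.2) _ (hKA _ a.2)
      have e2 : f * ((a : G) * (b : G)⁻¹) * f⁻¹ = (a : G) * (b : G)⁻¹ := by
        calc f * ((a : G) * (b : G)⁻¹) * f⁻¹ = (a : G) * ((a : G)⁻¹ * (f * a * f⁻¹)) * (f * b * f⁻¹)⁻¹ := by group
          _ = (a : G) * ((b : G)⁻¹ * (f * b * f⁻¹)) * (f * b * f⁻¹)⁻¹ := by rw [e1]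
          _ = _ := by group
      by_contra hne
      refine hf1 (Dg_A hC hvH hf (cent_A hC (mul_mem (hKA _ a.2) (inv_mem (hKA _ b.2)))
        (fun e' => hne (Subtype.ext (mul_inv_eq_one.1 e'))) ?_))
      exact mul_inv_eq_iff_eq_mul.1 e2
    obtain ⟨k, hk⟩ := (Finite.injective_iff_surjective.1 hinj) ⟨_, inv_mem hk0⟩
    have hk' : (k : G)⁻¹ * (f * k * f⁻¹) = (x⁻¹ * (f * x * f⁻¹))⁻¹ := congrArg Subtype.val hk
    refine hf1 (Dg_A hC hvH hf (cent_A hC (a := x * k) (mul_mem hx (hKA _ k.2)) (fun e => hxK ?_) ?_))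
    · rw [show x = (k : G)⁻¹ by exact eq_inv_of_mul_eq_one_left e]
      exact inv_mem k.2
    · refine mul_inv_eq_iff_eq_mul.1 ?_
      have hc : (k : G)⁻¹ * (f * k * f⁻¹) = (f * k * f⁻¹) * (k : G)⁻¹ :=
        (hKc _ (hKconj f hfH k k.2) _ (inv_mem (hKA _ k.2)))
      calc f * (x * k) * f⁻¹ = x * (x⁻¹ * (f * x * f⁻¹)) * ((f * k * f⁻¹) * (k : G)⁻¹) * k := by group
        _ = x * (x⁻¹ * (f * x * f⁻¹)) * (x⁻¹ * (f * x * f⁻¹))⁻¹ * k := by rw [← hc, hk']
        _ = x * k := by group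
  have key : ∀ x ∈ A, x ∉ K → ∀ y ∈ A, y * x = x * y := by
    intro x hx hxK
    have hnorm : ∀ g ∈ Hn A, g ∈ Subgroup.normalizer (Subgroup.centralizer ({x} : Set G) : Set G) := fun g hg =>
      cross h (c := x) ht1 (tcomm hC ht htt hx).symm
        (tcomm hC (conj_A hg ht) (by rw [show g * t * g⁻¹ * (g * t * g⁻¹) = g * (t * t) * g⁻¹ by group, htt]; group)
          hx).symm
    let φ : Dg A v × K → {y : A // (y : G) ∉ K} := fun p =>
      ⟨⟨p.1 * x * (p.1 : G)⁻¹ * p.2, mul_mem (conj_A (mem_Dg.1 p.1.2).1 hx) (hKA _ p.2.2)⟩, fun hm => hxK (by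
        have h1 := hKconj (p.1 : G)⁻¹ (inv_mem (mem_Dg.1 p.1.2).1) _ (mul_mem hm (inv_mem p.2.2))
        rwa [show (p.1 : G)⁻¹ * ((p.1 : G) * x * (p.1 : G)⁻¹ * p.2 * (p.2 : G)⁻¹) * ((p.1 : G)⁻¹)⁻¹ = x by group] at h1)⟩
    have hinj : Function.Injective φ := by
      rintro ⟨d, k⟩ ⟨e, k'⟩ he
      have e1 : (d : G) * x * (d : G)⁻¹ * k = (e : G) * x * (e : G)⁻¹ * k' :=
        congrArg (fun w : {y : A // (y : G) ∉ K} => ((w : A) : G)) he
      have hf : ((e : G)⁻¹ * d) = 1 := by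
        refine hfix _ (mul_mem (inv_mem e.2) d.2) x hx hxK ?_
        have h1 := hKconj (e : G)⁻¹ (inv_mem (mem_Dg.1 e.2).1) _ (mul_mem k'.2 (inv_mem k.2))
        have h2 : (d : G) * x * (d : G)⁻¹ = (e : G) * x * (e : G)⁻¹ * k' * (k : G)⁻¹ := eq_mul_inv_of_mul_eq e1
        rw [show x⁻¹ * ((e : G)⁻¹ * d * x * ((e : G)⁻¹ * d)⁻¹) = x⁻¹ * ((e : G)⁻¹ * ((d : G) * x * (d : G)⁻¹) * e) by group,
          h2, show x⁻¹ * ((e : G)⁻¹ * ((e : G) * x * (e : G)⁻¹ * k' * (k : G)⁻¹) * e)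
            = (e : G)⁻¹ * ((k' : G) * (k : G)⁻¹) * (e : G)⁻¹⁻¹ by group]
        exact h1
      have hde : d = e := Subtype.ext (inv_mul_eq_one.1 hf).symm
      subst hde
      exact Prod.ext rfl (Subtype.ext (mul_left_cancel e1))
    have hcard : Nat.card (Dg A v × K) = Nat.card {y : A // (y : G) ∉ K} := by
      letI := Fintype.ofFinite A
      have hc : Nat.card {y : A // (y : G) ∈ K} = Nat.card K :=
        Nat.card_congr ⟨fun y => ⟨y.1.1, y.2⟩, fun k => ⟨⟨k.1, hKA _ k.2⟩, k.2⟩, fun _ => rfl, fun _ => rfl⟩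
      rw [Nat.card_eq_fintype_card (α := {y : A // (y : G) ∉ K}), Fintype.card_subtype_compl,
        ← Nat.card_eq_fintype_card, ← Nat.card_eq_fintype_card (α := {y : A // (y : G) ∈ K}), hc, Nat.card_prod,
        card_D hC hvv hvH, hK, card_invGroup, hsq]
      rw [sq, add_mul, one_mul, Nat.add_sub_cancel]
    have hsurj := ((Nat.bijective_iff_injective_and_card φ).2 ⟨hinj, hcard⟩).2
    intro y hy
    by_cases hyK : y ∈ K
    · exact (hKc y hyK x hx).symm
    obtain ⟨⟨d, k⟩, hdk⟩ := hsurj ⟨⟨y, hy⟩, hyK⟩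
    have e : (d : G) * x * (d : G)⁻¹ * k = y := congrArg (fun w : {y : A // (y : G) ∉ K} => ((w : A) : G)) hdk
    rw [← e]
    have h1 := (Subgroup.mem_normalizer_iff.1 (hnorm _ (mem_Dg.1 d.2).1) x).1 (mem_cent.2 rfl)
    exact (Commute.mul_left (show Commute _ x from mem_cent.1 h1)
      (show Commute (k : G) x from (hKc _ k.2 x hx).symm)).eq
  obtain ⟨x, y, hxy⟩ := hna
  refine hxy (Subtype.ext ?_)
  show (x : G) * y = y * x
  by_cases hyK : (y : G) ∈ K
  · exact hKc _ hyK _ x.2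
  · exact key _ y.2 hyK _ x.2

theorem elementary_simple [IsSimpleGroup G] (h : TI G) {A : Subgroup G} (hC : Ctx A) : ∀ c ∈ A, c * c = 1 := by
  classical
  rcases alternatives hC with he | ⟨hp, hna⟩
  · exact he
  exfalso
  obtain ⟨v, hvv, hvH⟩ := exists_invol_outside hC
  letI : Fintype (G ⧸ Hn A) := Fintype.ofFinite _
  have hZ := zassenhaus hC hvv hvH
  have fix_base : ∀ g : G, g • (QuotientGroup.mk 1 : G ⧸ Hn A) = QuotientGroup.mk 1 ↔ g ∈ Hn A := fun g => by
    rw [MulAction.Quotient.smul_mk, smul_eq_mul, mul_one, QuotientGroup.eq]; simp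
  have hne : (QuotientGroup.mk 1 : G ⧸ Hn A) ≠ QuotientGroup.mk v := fun e => hvH (by
    rw [QuotientGroup.eq] at e; simpa using e)
  have honly : ∀ a ∈ A, a ≠ 1 → ∀ c : G ⧸ Hn A, a • c = c → c = QuotientGroup.mk 1 := by
    intro a ha ha1 c hc
    by_contra hc1
    obtain ⟨g, rfl⟩ := QuotientGroup.mk_surjective c
    obtain ⟨t, ht, e⟩ := bruhat hC hvv hvH hC.two_le (g := g) fun hg => hc1 (QuotientGroup.eq.2 (by simpa using hg))
    rw [← QuotientGroup.eq.2 e, MulAction.Quotient.smul_mk, smul_eq_mul, ← mul_assoc, QuotientGroup.eq] at hc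
    have h1 := free hC hvv hvH (mul_mem ha ht) ht hc
    exact ha1 (mul_eq_right.1 h1)
  obtain ⟨n, -, hn1, hdeg, -, hst, -, -⟩ := Lie.ZassenhausSuzuki.suzuki_data hZ hne A
    (fun a ha => (fix_base a).2 (A_le ha)) (by rw [← Nat.card_eq_fintype_card, card_quot hC]) honly hp hna
  rw [stab_one hC v, card_D hC hvv hvH] at hst
  rw [card_quot hC] at hdeg
  refine false_of_square h hC ?_ hna
  rw [hst, Nat.sub_add_cancel Nat.one_le_two_pow, ← pow_mul, mul_comm n 2]
  omega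

/-- All involution centralizers are elementary abelian. -/
theorem elementary (h : TI G) (hnil : ∀ N : Subgroup G, N.Normal → Group.IsNilpotent N → N = ⊥)
    {z : G} (hz : z * z = 1) (hz1 : z ≠ 1) : ∀ c ∈ Subgroup.centralizer ({z} : Set G), c * c = 1 := by
  classical
  obtain ⟨A, hAdef⟩ : ∃ A, A = Subgroup.centralizer ({z} : Set G) := ⟨_, rfl⟩
  rw [← hAdef]
  have hC : Ctx A := hAdef ▸ exists_ctx h hnil hz hz1
  rcases alternatives hC with he | -
  · exact he
  have hzA : z ∈ A := by rw [hAdef, mem_cent]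
  obtain ⟨v, hvv, hvH⟩ := exists_invol_outside hC
  letI : Fintype (G ⧸ Hn A) := Fintype.ofFinite _
  obtain ⟨N, hNn, hN1, hNs⟩ := Lie.Feit.exists_simple_normal (zassenhaus hC hvv hvH)
  haveI := hNn; haveI := hNs
  haveI : Fact (Nat.Prime 2) := ⟨Nat.prime_two⟩
  obtain ⟨w, hw⟩ : ∃ w : N, orderOf w = 2 := by
    refine exists_prime_orderOf_dvd_card' 2 ?_
    rw [← even_iff_two_dvd, ← Nat.not_odd_iff_even]
    exact fun ho => hN1 (odd_normal h hnil N hNn ho)
  have hwo : orderOf (w : G) = 2 := by rwa [Subgroup.orderOf_coe]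
  have hall : ∀ s : G, s * s = 1 → s ≠ 1 → s ∈ N := by
    intro s hs hs1
    obtain ⟨g, hg⟩ := one_class h hnil (x := (w : G)) (y := s) (by rw [← sq, ← hwo]; exact pow_orderOf_eq_one _)
      (fun e => by rw [e, orderOf_one] at hwo; omega) hs hs1
    exact hg ▸ hNn.conj_mem _ w.2 g
  have hzN := hall z hz hz1
  obtain ⟨A', hA'⟩ : ∃ A', A' = Subgroup.centralizer ({⟨z, hzN⟩} : Set N) := ⟨_, rfl⟩
  have hnilN : ∀ M : Subgroup N, M.Normal → Group.IsNilpotent M → M = ⊥ := by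
    intro M hM hMn
    rcases IsSimpleGroup.eq_bot_or_eq_top_of_normal M hM with e | e
    · exact e
    · exact absurd (hnil N hNn (Group.isNilpotent_top.1 (e ▸ hMn))) hN1
  have hz' : (⟨z, hzN⟩ : N) * ⟨z, hzN⟩ = 1 := Subtype.ext hz
  have hz1' : (⟨z, hzN⟩ : N) ≠ 1 := fun e => hz1 (congrArg Subtype.val e)
  have hC' : Ctx A' := hA' ▸ exists_ctx (sub h N) hnilN hz' hz1'
  have hel' := elementary_simple (sub h N) hC'
  have hmem : ∀ x : N, x ∈ A' ↔ (x : G) ∈ A := fun x => by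
    rw [hA', hAdef, mem_cent, mem_cent]
    exact ⟨fun e => congrArg Subtype.val e, fun e => Subtype.ext e⟩
  have hH : Hn A' = (Hn A).subgroupOf N := by
    ext g
    rw [Subgroup.mem_subgroupOf]
    constructor
    · intro hg
      exact hC.tiA z hzA hz1 _ ((hmem _).1 (conj_A hg ((hmem ⟨z, hzN⟩).2 hzA)))
    · intro hg
      refine Subgroup.mem_normalizer_iff.2 fun x => ?_
      rw [hmem, hmem]
      exact Subgroup.mem_normalizer_iff.1 hg x
  have hsup : N ⊔ Hn A = ⊤ := by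
    refine eq_top_iff.2 fun g _ => ?_
    have hs : g * z * g⁻¹ * (g * z * g⁻¹) = 1 := by
      rw [show g * z * g⁻¹ * (g * z * g⁻¹) = g * (z * z) * g⁻¹ by group, hz]; group
    have hs1 : g * z * g⁻¹ ≠ 1 := fun e => hz1 (conj_eq_one_iff.1 e)
    obtain ⟨n, hn⟩ := one_class (sub h N) hnilN (x := (⟨z, hzN⟩ : N)) (y := ⟨_, hall _ hs hs1⟩)
      hz' hz1' (Subtype.ext hs) (fun e => hs1 (congrArg Subtype.val e))
    have e : (n : G) * z * (n : G)⁻¹ = g * z * g⁻¹ := congrArg Subtype.val hn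
    have h1 : (n : G)⁻¹ * g ∈ Hn A := by
      refine A_le (hAdef ▸ mem_cent.2 ?_)
      calc (n : G)⁻¹ * g * z = (n : G)⁻¹ * (g * z * g⁻¹) * g := by group
        _ = z * ((n : G)⁻¹ * g) := by rw [← e]; group
    have := mul_mem (Subgroup.mem_sup_left (T := Hn A) n.2) (Subgroup.mem_sup_right (S := N) h1)
    rwa [mul_inv_cancel_left] at this
  have hidx : Nat.card A' = Nat.card A := by
    have h1 := card_quot hC'
    have h2 := card_quot hC
    rw [← Subgroup.index] at h1 h2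
    have h3 := card_sup_mul_card_inf N (Hn A)
    rw [hsup, Subgroup.card_top, ← (Hn A).index_mul_card] at h3
    have h4 := (Hn A').index_mul_card
    have h5 : Nat.card (Hn A') = Nat.card (N ⊓ Hn A : Subgroup G) := by
      rw [hH, ← card_map_subtype, Subgroup.subgroupOf_map_subtype, inf_comm]
    have hpos : 0 < Nat.card (N ⊓ Hn A : Subgroup G) := Nat.card_pos
    have hpos' : 0 < Nat.card (Hn A) := Nat.card_pos
    rw [← h4, h5] at h3
    have h6 : (Hn A).index = (Hn A').index := by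
      have : (Hn A).index * (Nat.card (Hn A) * Nat.card (N ⊓ Hn A : Subgroup G))
          = (Hn A').index * (Nat.card (Hn A) * Nat.card (N ⊓ Hn A : Subgroup G)) := by
        rw [← mul_assoc, h3]; ring
      exact Nat.eq_of_mul_eq_mul_right (Nat.mul_pos hpos' hpos) this
    omega
  intro c hc
  have hAeq : A'.map N.subtype = A := Subgroup.eq_of_le_of_card_ge
    (by rintro _ ⟨x, hx, rfl⟩; exact (hmem x).1 hx)
    (by rw [Subgroup.card_map_of_injective N.subtype_injective, hidx])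
  obtain ⟨x, hx, rfl⟩ := hAeq.ge hc
  exact congrArg Subtype.val (hel' x hx)

end Cfsg.Agent.Solv.TICent
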